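import Mathlib

/-!
# Differentials of an extension of discrete valuation rings against the ramification index
-/

set_option autoImplicit false
set_option linter.style.haveILetI false
universe u

open IsLocalRing Polynomial

namespace Groth.Agent.Ram24

variable {A B : Type u} [CommRing A] [IsLocalRing A] [CommRing B] [IsDomain B]
  [IsDiscreteValuationRing B] [Algebra A B] [IsLocalHom (algebraMap A B)]

omit [IsLocalHom (algebraMap A B)] [IsDomain B] [IsDiscreteValuationRing B] in
/-- A derivation into a quotient of `B`, as a linear map on the differentials. -/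
theorem exists_lift [IsLocalRing B] (n : ℕ) (δ : B → B ⧸ maximalIdeal B ^ n)
    (hadd : ∀ b b', δ (b + b') = δ b + δ b')
    (hmul : ∀ b b', δ (b * b') = Ideal.Quotient.mk _ b * δ b' + Ideal.Quotient.mk _ b' * δ b)
    (hA : ∀ a : A, δ (algebraMap A B a) = 0) :
    ∃ Φ : Ω[B⁄A] →ₗ[B] B ⧸ maximalIdeal B ^ n, ∀ b, Φ (KaehlerDifferential.D A B b) = δ b := by
  have hsm : ∀ (b : B) (m : B ⧸ maximalIdeal B ^ n), b • m = Ideal.Quotient.mk _ b * m := fun b m => by
    obtain ⟨m, rfl⟩ := Ideal.Quotient.mk_surjective m
    rfl
  let L : B →ₗ[A] B ⧸ maximalIdeal B ^ n :=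
    { toFun := δ
      map_add' := hadd
      map_smul' := fun a b => by
        rw [Algebra.smul_def, hmul, hA, mul_zero, add_zero, RingHom.id_apply, ← hsm, algebraMap_smul] }
  have hL1 : δ 1 = 0 := by simpa using hA 1
  let D : Derivation A B (B ⧸ maximalIdeal B ^ n) :=
    { toLinearMap := L
      map_one_eq_zero' := hL1
      leibniz' := fun b b' => by rw [hsm, hsm]; exact hmul b b' }
  exact ⟨D.liftKaehlerDifferential, D.liftKaehlerDifferential_comp_D⟩

omit [IsLocalHom (algebraMap A B)] in
/-- A derivation that takes the value one bounds the length of the differentials from below. -/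
theorem le_length_of_derivation (n : ℕ) (δ : B → B ⧸ maximalIdeal B ^ n)
    (hadd : ∀ b b', δ (b + b') = δ b + δ b')
    (hmul : ∀ b b', δ (b * b') = Ideal.Quotient.mk _ b * δ b' + Ideal.Quotient.mk _ b' * δ b)
    (hA : ∀ a : A, δ (algebraMap A B a) = 0) (b₁ : B) (h1 : δ b₁ = 1) :
    (n : ℕ∞) ≤ Module.length B Ω[B⁄A] := by
  obtain ⟨Φ, hΦ⟩ := exists_lift n δ hadd hmul hA
  have hsurj : Function.Surjective Φ := fun m => by
    obtain ⟨b, rfl⟩ := Ideal.Quotient.mk_surjective m
    refine ⟨b • KaehlerDifferential.D A B b₁, ?_⟩
    rw [map_smul, hΦ, h1]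
    exact congrArg Submodule.Quotient.mk (mul_one b)
  exact (IsDiscreteValuationRing.length_quotient_pow_maximalIdeal (R := B) n).symm.le.trans
    (Module.length_le_of_surjective Φ hsurj)

variable {e : ℕ}

/-- The residue field of `A` acts on the quotient of `B` by the extended maximal ideal. -/
noncomputable def fibreHom (he : (maximalIdeal A).map (algebraMap A B) = maximalIdeal B ^ e) :
    ResidueField A →+* B ⧸ maximalIdeal B ^ e :=
  Ideal.Quotient.lift (maximalIdeal A) ((Ideal.Quotient.mk _).comp (algebraMap A B))
    fun a ha => Ideal.Quotient.eq_zero_iff_mem.2 (he ▸ Ideal.mem_map_of_mem _ ha)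

omit [IsLocalHom (algebraMap A B)] in
theorem fibreHom_residue (he : (maximalIdeal A).map (algebraMap A B) = maximalIdeal B ^ e) (a : A) :
    fibreHom he (residue A a) = Ideal.Quotient.mk _ (algebraMap A B a) := rfl

omit [IsLocalHom (algebraMap A B)] in
theorem span_of_not_mem_sq {π : B} (hπ : maximalIdeal B = Ideal.span {π}) {b : B}
    (hb : b ∈ maximalIdeal B) (hb2 : b ∉ maximalIdeal B ^ 2) : maximalIdeal B = Ideal.span {b} := by
  obtain ⟨c, rfl⟩ := Ideal.mem_span_singleton'.1 (hπ ▸ hb)
  have hc : IsUnit c := by
    by_contra h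
    apply hb2
    rw [pow_two]
    exact Ideal.mul_mem_mul ((mem_maximalIdeal c).2 h) (hπ ▸ Ideal.mem_span_singleton_self π)
  rw [hπ, Ideal.span_singleton_mul_left_unit hc]

omit [IsLocalHom (algebraMap A B)] in
theorem irreducible_not_mem_sq {π : B} (hπ : Irreducible π) : π ∉ maximalIdeal B ^ 2 := by
  rw [hπ.maximalIdeal_eq, Ideal.span_singleton_pow, Ideal.mem_span_singleton]
  intro h
  have := (pow_dvd_pow_iff hπ.ne_zero hπ.not_isUnit (n := 2) (m := 1)).1 (by simpa using h)
  omega

variable [Module.Finite (ResidueField A) (ResidueField B)]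

/-- The lower bound, given a generator of the fibre over the separable closure of the residue fields. -/
theorem le_length_of_generator (he : (maximalIdeal A).map (algebraMap A B) = maximalIdeal B ^ e) (he1 : 1 ≤ e)
    (K : IntermediateField (ResidueField A) (ResidueField B)) (ι : K →+* B ⧸ maximalIdeal B ^ e)
    (hιA : ∀ a : A, ι (algebraMap (ResidueField A) K (residue A a)) = Ideal.Quotient.mk _ (algebraMap A B a))
    (hιB : ∀ (x : K) (b : B), ι x = Ideal.Quotient.mk _ b → residue B b = x)
    (a₀ : B) (hgen : Function.Surjective (aeval (R := K) (residue B a₀)))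
    (hF : ∃ b : B, Ideal.Quotient.mk _ b = eval₂ ι (Ideal.Quotient.mk _ a₀) (minpoly K (residue B a₀)) ∧
      maximalIdeal B = Ideal.span {b})
    (n : ℕ) (hn : n ≤ e)
    (hG : ∀ b : B, eval₂ ι (Ideal.Quotient.mk _ a₀) ((minpoly K (residue B a₀) ^ e).derivative) =
      Ideal.Quotient.mk _ b → b ∈ maximalIdeal B ^ n) :
    (n : ℕ∞) ≤ Module.length B Ω[B⁄A] := by
  let F := minpoly K (residue B a₀)
  let q := Ideal.Quotient.mk (maximalIdeal B ^ e)
  let φ : K[X] →+* B ⧸ maximalIdeal B ^ e := eval₂RingHom ι (q a₀)
  let r : B ⧸ maximalIdeal B ^ e →+* B ⧸ maximalIdeal B ^ n :=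
    Ideal.Quotient.factor (Ideal.pow_le_pow_right hn)
  have hres : ∀ (p : K[X]) (b : B), φ p = q b → residue B b = aeval (residue B a₀) p := by
    intro p
    induction p using Polynomial.induction_on with
    | C x => intro b hb; rw [aeval_C]; exact hιB x b (by simpa [φ] using hb)
    | add p p' hp hp' =>
      intro b hb
      obtain ⟨c, hc⟩ := Ideal.Quotient.mk_surjective (φ p)
      obtain ⟨c', hc'⟩ := Ideal.Quotient.mk_surjective (φ p')
      have : b - (c + c') ∈ maximalIdeal B := Ideal.pow_le_self (show e ≠ 0 by omega) <| Ideal.Quotient.eq_zero_iff_mem.1 <| by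
        rw [map_sub, map_add, ← hb, hc, hc', map_add, sub_self]
      rw [map_add, ← hp c hc.symm, ← hp' c' hc'.symm, ← map_add, ← sub_eq_zero, ← map_sub, residue_eq_zero_iff]
      exact this
    | monomial m x hp =>
      intro b hb
      obtain ⟨c, hc⟩ := Ideal.Quotient.mk_surjective (φ (C x * X ^ m))
      have hb' : q b = q (c * a₀) := by
        rw [← hb, map_mul q, show q c = _ from hc, pow_succ, ← mul_assoc, map_mul φ]
        simp [φ]
      have : b - c * a₀ ∈ maximalIdeal B := Ideal.pow_le_self (show e ≠ 0 by omega) <| Ideal.Quotient.eq.1 hb'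
      rw [pow_succ, ← mul_assoc, map_mul, aeval_X, ← hp c hc.symm, ← map_mul, ← sub_eq_zero, ← map_sub,
        residue_eq_zero_iff]
      exact this
  obtain ⟨bF, hbF, hm⟩ := hF
  replace hbF : q bF = φ F := hbF
  have hbF0 : q bF ^ e = 0 := by
    rw [← map_pow, Ideal.Quotient.eq_zero_iff_mem]
    exact Ideal.pow_mem_pow (hm ▸ Ideal.mem_span_singleton_self bF) e
  have hsurj : Function.Surjective φ := by
    have hstep : ∀ j, ∀ b : B, ∃ p : K[X], ∃ c : B, φ p + q (bF ^ j * c) = q b := by
      intro j
      induction j with
      | zero => exact fun b => ⟨0, b, by simp⟩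
      | succ j ih =>
        intro b
        obtain ⟨p, c, hpc⟩ := ih b
        obtain ⟨p', hp'⟩ := hgen (residue B c)
        obtain ⟨c', hc'⟩ := Ideal.Quotient.mk_surjective (φ p')
        have : c - c' ∈ Ideal.span {bF} := by
          rw [← hm, ← residue_eq_zero_iff, map_sub, hres p' c' hc'.symm, hp', sub_self]
        obtain ⟨d, hd⟩ := Ideal.mem_span_singleton'.1 this
        refine ⟨p + F ^ j * p', d, ?_⟩
        have hd' : q c = φ p' + q d * q bF := by
          rw [show φ p' = q c' from hc'.symm, ← map_mul, ← map_add, hd, add_sub_cancel]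
        rw [map_add, map_mul φ, map_pow φ, show φ F = q bF from hbF.symm, ← hpc, map_mul q, map_pow, map_mul q,
          map_pow, hd', pow_succ]
        ring
    intro x
    obtain ⟨b, rfl⟩ := Ideal.Quotient.mk_surjective x
    obtain ⟨p, c, hpc⟩ := hstep e b
    exact ⟨p, by rw [← hpc, map_mul, map_pow, hbF0, zero_mul, add_zero]⟩
  have hFe : φ (F ^ e) = 0 := by rw [map_pow, ← hbF, hbF0]
  have hirr : Irreducible F := minpoly.irreducible (Algebra.IsIntegral.isIntegral _)
  have hker : ∀ p, φ p = 0 → F ^ e ∣ p := by
    obtain ⟨g, hg₀⟩ := (IsPrincipalIdealRing.principal (RingHom.ker φ)).principal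
    have hg : ∀ x, φ x = 0 ↔ g ∣ x := fun x => by
      rw [← RingHom.mem_ker, hg₀, ← Ideal.mem_span_singleton]
    intro p hp
    have hgF : g ∣ F ^ e := (hg _).1 hFe
    obtain ⟨j, hj, hassoc⟩ := (dvd_prime_pow hirr.prime e).1 hgF
    have hgp : g ∣ p := (hg _).1 hp
    have hj0 : φ (F ^ j) = 0 := (hg _).2 hassoc.dvd
    have hje : e ≤ j := by
      by_contra hlt
      rw [map_pow, ← hbF, ← map_pow, Ideal.Quotient.eq_zero_iff_mem, hm, Ideal.span_singleton_pow,
        Ideal.mem_span_singleton] at hj0
      have hbF' : Irreducible bF := (IsDiscreteValuationRing.irreducible_iff_uniformizer bF).2 hm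
      have := (pow_dvd_pow_iff hbF'.ne_zero hbF'.not_isUnit).1 hj0
      omega
    exact (pow_dvd_pow F hje).trans (hassoc.symm.dvd.trans hgp)
  have hwd : ∀ p p', φ p = φ p' → r (φ p.derivative) = r (φ p'.derivative) := by
    intro p p' hpp
    obtain ⟨h, hh⟩ := hker (p - p') (by rw [map_sub, hpp, sub_self])
    obtain ⟨bG, hbG⟩ := Ideal.Quotient.mk_surjective (φ (F ^ e).derivative)
    have hr0 : r (φ (F ^ e).derivative) = 0 := by
      rw [← hbG]
      exact Ideal.Quotient.eq_zero_iff_mem.2 (hG bG hbG.symm)
    rw [← sub_eq_zero, ← map_sub, ← map_sub, ← derivative_sub, hh, derivative_mul, map_add, map_mul φ, map_mul φ,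
      map_add, map_mul r, map_mul r, hr0, hFe, map_zero, zero_mul, zero_mul, add_zero]
  choose s hs using fun b : B => hsurj (q b)
  have hr : ∀ b, r (q b) = Ideal.Quotient.mk _ b := fun b => rfl
  refine le_length_of_derivation n (fun b => r (φ (s b).derivative)) (fun b b' => ?_) (fun b b' => ?_)
    (fun a => ?_) a₀ ?_
  · rw [hwd (s (b + b')) (s b + s b') (by rw [hs, map_add φ, hs, hs, map_add]), derivative_add, map_add, map_add]
  · rw [hwd (s (b * b')) (s b * s b') (by rw [hs, map_mul φ, hs, hs, map_mul]), derivative_mul, map_add, map_add,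
      map_mul φ, map_mul φ, map_mul r, map_mul r, hs, hs, hr, hr]
    ring
  · rw [hwd (s (algebraMap A B a)) (C (algebraMap (ResidueField A) K (residue A a)))
      (by rw [hs]; simp [φ, q, hιA]), derivative_C, map_zero, map_zero]
  · rw [hwd (s a₀) X (by rw [hs]; simp [φ]), derivative_X, map_one, map_one]

/-- If the residue extension is separable and `b` is any element of `B`, then `db` lies in
`B dπ + m Ω`. -/
theorem span_D_of_separable [Algebra.IsSeparable (ResidueField A) (ResidueField B)] {π : B}
    (hπ : maximalIdeal B = Ideal.span {π}) (hfg : (⊤ : Submodule B Ω[B⁄A]).FG) :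
    Submodule.span B {KaehlerDifferential.D A B π} = ⊤ := by
  refine eq_top_iff.2 (Submodule.le_of_le_smul_of_le_jacobson_bot (I := maximalIdeal B) hfg
    (maximalIdeal_le_jacobson _) ?_)
  rw [← KaehlerDifferential.span_range_derivation, Submodule.span_le, KaehlerDifferential.span_range_derivation]
  rintro _ ⟨b, rfl⟩
  have hint : IsIntegral (ResidueField A) (residue B b) := Algebra.IsIntegral.isIntegral _
  let P := minpoly (ResidueField A) (residue B b)
  obtain ⟨Q, hQ⟩ := Polynomial.map_surjective (residue A) residue_surjective P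
  have hres : ∀ R : A[X], residue B (aeval b R) = aeval (residue B b) (R.map (residue A)) := fun R => by
    rw [show aeval (residue B b) (R.map (residue A)) = aeval (residue B b) R from
      aeval_map_algebraMap (ResidueField A) _ _, ← ResidueField.algebraMap_eq]
    exact (aeval_algebraMap_apply (ResidueField B) b R).symm
  have hunit : IsUnit (aeval b Q.derivative) := by
    by_contra h
    have h0 := (residue_eq_zero_iff _).2 ((mem_maximalIdeal _).2 h)
    rw [hres, ← derivative_map, hQ] at h0
    exact (Algebra.IsSeparable.isSeparable (ResidueField A) (residue B b)).aeval_derivative_ne_zero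
      (minpoly.aeval _ _) h0
  have h0 : aeval b Q ∈ maximalIdeal B := by
    rw [← residue_eq_zero_iff, hres, hQ]; exact minpoly.aeval _ _
  obtain ⟨c, hc⟩ := Ideal.mem_span_singleton'.1 (hπ ▸ h0)
  obtain ⟨u, hu⟩ := hunit
  have hd : (KaehlerDifferential.D A B) b = (↑u⁻¹ : B) • (c • KaehlerDifferential.D A B π + π • KaehlerDifferential.D A B c) := by
    rw [← Derivation.leibniz, hc, Derivation.map_aeval, smul_smul, ← hu, Units.inv_mul, one_smul]
  rw [SetLike.mem_coe, hd, smul_add]
  refine add_mem (Submodule.mem_sup_left ?_) (Submodule.mem_sup_right ?_)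
  · exact Submodule.smul_mem _ _ (Submodule.smul_mem _ _ (Submodule.mem_span_singleton_self _))
  · exact Submodule.smul_mem _ _ (Submodule.smul_mem_smul (hπ ▸ Ideal.mem_span_singleton_self π) trivial)

/-- **Ramification index and differentials.** -/
theorem main (he : (maximalIdeal A).map (algebraMap A B) = maximalIdeal B ^ e) (he1 : 1 ≤ e)
    (hA : Submodule.IsPrincipal (maximalIdeal A))
    (hcyc : ∃ ω : Ω[B⁄A], Submodule.span B {ω} = ⊤) :
    ((e - 1 : ℕ) : ℕ∞) ≤ Module.length B Ω[B⁄A] ∧
      (Module.length B Ω[B⁄A] = ((e - 1 : ℕ) : ℕ∞) ↔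
        (Algebra.IsSeparable (ResidueField A) (ResidueField B) ∧ (e : ResidueField A) ≠ 0)) := by
  obtain ⟨ω, hω⟩ := hcyc
  obtain ⟨π, hπirr⟩ := IsDiscreteValuationRing.exists_irreducible B
  have hπ : maximalIdeal B = Ideal.span {π} := hπirr.maximalIdeal_eq
  let K := separableClosure (ResidueField A) (ResidueField B)
  letI algC : Algebra (ResidueField A) (B ⧸ maximalIdeal B ^ e) := (fibreHom he).toAlgebra
  let g : B ⧸ maximalIdeal B ^ e →ₐ[ResidueField A] ResidueField B :=
    { toRingHom := Ideal.Quotient.factor (Ideal.pow_le_self (by omega : e ≠ 0))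
      commutes' := fun c => by
        obtain ⟨a, rfl⟩ := residue_surjective c
        rfl }
  have hg : Function.Surjective g := Ideal.Quotient.factor_surjective (Ideal.pow_le_self (by omega : e ≠ 0))
  have hnil : IsNilpotent (RingHom.ker (g : B ⧸ maximalIdeal B ^ e →+* ResidueField B)) := by
    refine ⟨e, ?_⟩
    have : RingHom.ker (g : B ⧸ maximalIdeal B ^ e →+* ResidueField B) =
        (maximalIdeal B).map (Ideal.Quotient.mk (maximalIdeal B ^ e)) :=
      Ideal.Quotient.factor_ker (Ideal.pow_le_self (by omega : e ≠ 0))
    rw [this, ← Ideal.map_pow, Ideal.map_quotient_self]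
    rfl
  haveI : Algebra.FormallyEtale (ResidueField A) K := Algebra.FormallyEtale.of_isSeparable _ _
  let ι := Algebra.FormallySmooth.liftOfSurjective K.val g hg hnil
  have hιB : ∀ (x : K) (b : B), ι.toRingHom x = Ideal.Quotient.mk _ b → residue B b = x := fun x b h => by
    have := Algebra.FormallySmooth.liftOfSurjective_apply K.val g hg hnil x
    change g (ι.toRingHom x) = _ at this
    rw [h] at this
    exact this
  have hιA : ∀ a : A, ι.toRingHom (algebraMap (ResidueField A) K (residue A a)) =
      Ideal.Quotient.mk _ (algebraMap A B a) := fun a => ι.commutes _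
  by_cases hsep : Algebra.IsSeparable (ResidueField A) (ResidueField B)
  · -- separable residue extension
    have hK : K = ⊤ := (separableClosure.eq_top_iff _ _).2 hsep
    have hmin : minpoly K (residue B π) = X := by
      rw [(residue_eq_zero_iff π).2 (hπ ▸ Ideal.mem_span_singleton_self π), minpoly.zero]
    have key : ∀ n ≤ e, (((e : ResidueField A) = 0) ∨ n ≤ e - 1) → (n : ℕ∞) ≤ Module.length B Ω[B⁄A] := by
      intro n hn hor
      refine le_length_of_generator he he1 K ι.toRingHom hιA hιB π (fun y => ⟨C ⟨y, hK ▸ IntermediateField.mem_top⟩, by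
        rw [aeval_C]; rfl⟩) ⟨π, by rw [hmin, eval₂_X], hπ⟩ n hn fun b hb => ?_
      rw [hmin, derivative_X_pow, eval₂_mul, eval₂_C, eval₂_X_pow, map_natCast, ← map_pow,
        ← map_natCast (Ideal.Quotient.mk _), ← map_mul] at hb
      have hb' : b - (e : B) * π ^ (e - 1) ∈ maximalIdeal B ^ n :=
        Ideal.pow_le_pow_right hn (Ideal.Quotient.eq.1 hb.symm)
      have h2 : (e : B) * π ^ (e - 1) ∈ maximalIdeal B ^ n := by
        rcases hor with h0 | hle
        · have hem : (e : A) ∈ maximalIdeal A := (residue_eq_zero_iff _).1 (by rw [map_natCast]; exact h0)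
          have hem' : (e : B) ∈ maximalIdeal B ^ e := by
            rw [← map_natCast (algebraMap A B), ← he]; exact Ideal.mem_map_of_mem _ hem
          exact Ideal.mul_mem_right _ _ (Ideal.pow_le_pow_right hn hem')
        · exact Ideal.mul_mem_left _ _ (Ideal.pow_le_pow_right hle
            (Ideal.pow_mem_pow (hπ ▸ Ideal.mem_span_singleton_self π) _))
      simpa using Ideal.add_mem _ hb' h2
    refine ⟨key (e - 1) (by omega) (Or.inr le_rfl), ⟨fun hlen => ⟨hsep, fun h0 => ?_⟩, fun h => ?_⟩⟩
    · have := key e le_rfl (Or.inl h0)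
      rw [hlen, Nat.cast_le] at this
      omega
    · refine le_antisymm ?_ (key (e - 1) (by omega) (Or.inr le_rfl))
      -- the differentials are generated by `dπ` and killed by `π ^ (e - 1)`
      have hspan := span_D_of_separable hπ (hω ▸ Submodule.fg_span_singleton ω)
      obtain ⟨ϖ, hϖ⟩ := hA.principal
      have hmap : Ideal.span {π ^ e} = Ideal.span {algebraMap A B ϖ} := by
        rw [← Ideal.span_singleton_pow, ← hπ, ← he, hϖ, ← Ideal.span, Ideal.map_span, Set.image_singleton]
      obtain ⟨u, hu⟩ := Ideal.span_singleton_eq_span_singleton.1 hmap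
      have heu : IsUnit (e : B) := by
        rw [← map_natCast (algebraMap A B)]
        refine IsUnit.map _ (not_not.1 fun hne => h.2 ?_)
        rw [← map_natCast (residue A), residue_eq_zero_iff]
        exact (mem_maximalIdeal _).2 hne
      have hd : (π ^ (e - 1) * (↑u * (e : B))) • KaehlerDifferential.D A B π +
          π ^ e • KaehlerDifferential.D A B (↑u : B) = 0 := by
        have := (KaehlerDifferential.D A B).map_algebraMap ϖ
        rw [← hu, Derivation.leibniz, Derivation.leibniz_pow, ← Nat.cast_smul_eq_nsmul B, smul_smul, smul_smul,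
          add_comm] at this
        rw [← this]
        congr 2
        ring
      obtain ⟨c, hc⟩ := Submodule.mem_span_singleton.1
        (hspan.ge (Submodule.mem_top (x := KaehlerDifferential.D A B (↑u : B))))
      have hunit : IsUnit (↑u * (e : B) + π * c) := by
        by_contra hne
        have hm := (mem_maximalIdeal _).2 hne
        have : π * c ∈ maximalIdeal B := Ideal.mul_mem_right _ _ (hπ ▸ Ideal.mem_span_singleton_self π)
        exact (mem_maximalIdeal _).1 ((Ideal.add_mem_iff_left _ this).1 hm) (u.isUnit.mul heu)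
      obtain ⟨v, hv⟩ := hunit
      have hzero : π ^ (e - 1) • KaehlerDifferential.D A B π = 0 := by
        rw [← hc, smul_smul, ← add_smul] at hd
        have h' : π ^ (e - 1) * (↑u * (e : B)) + π ^ e * c = ↑v * π ^ (e - 1) := by
          rw [hv, ← Nat.sub_add_cancel he1, pow_succ, Nat.add_sub_cancel]; ring
        rw [h', mul_smul] at hd
        simpa using congrArg ((↑v⁻¹ : B) • ·) hd
      let ψ := Submodule.liftQ (maximalIdeal B ^ (e - 1)) (LinearMap.toSpanSingleton B Ω[B⁄A] (KaehlerDifferential.D A B π))
        (by
          intro x hx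
          rw [hπ, Ideal.span_singleton_pow, Ideal.mem_span_singleton'] at hx
          obtain ⟨y, rfl⟩ := hx
          rw [LinearMap.mem_ker, LinearMap.toSpanSingleton_apply, mul_smul, hzero, smul_zero])
      have hψ : Function.Surjective ψ := fun w => by
        obtain ⟨y, rfl⟩ := Submodule.mem_span_singleton.1 (hspan.ge (Submodule.mem_top (x := w)))
        exact ⟨Submodule.Quotient.mk y, rfl⟩
      exact (Module.length_le_of_surjective ψ hψ).trans
        (IsDiscreteValuationRing.length_quotient_pow_maximalIdeal (R := B) _).le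
  · -- inseparable residue extension
    haveI : Algebra.IsAlgebraic (ResidueField A) (ResidueField B) := Algebra.IsAlgebraic.of_finite _ _
    haveI : IsPurelyInseparable K (ResidueField B) := separableClosure.isPurelyInseparable _ _
    haveI : Module.Finite K (ResidueField B) := Module.Finite.of_restrictScalars_finite (ResidueField A) _ _
    suffices hlen : (e : ℕ∞) ≤ Module.length B Ω[B⁄A] by
      refine ⟨le_trans (Nat.cast_le.2 (Nat.sub_le e 1)) hlen, ⟨fun h => ?_, fun h => absurd h.1 hsep⟩⟩
      rw [h, Nat.cast_le] at hlen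
      omega
    have hex : ∃ y : ResidueField B, KaehlerDifferential.D K (ResidueField B) y ≠ 0 := by
      by_contra hall
      simp only [not_exists, not_not] at hall
      haveI : Subsingleton Ω[ResidueField B⁄K] := by
        refine subsingleton_of_forall_eq 0 fun w => ?_
        have hw : w ∈ Submodule.span (ResidueField B) (Set.range (KaehlerDifferential.D K (ResidueField B))) :=
          (KaehlerDifferential.span_range_derivation K (ResidueField B)).ge Submodule.mem_top
        rwa [show Set.range (KaehlerDifferential.D K (ResidueField B)) = {0} from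
          Set.eq_singleton_iff_nonempty_unique_mem.2 ⟨Set.range_nonempty _, by rintro _ ⟨y, rfl⟩; exact hall y⟩,
          Submodule.span_zero_singleton, Submodule.mem_bot] at hw
      haveI : Algebra.FormallyUnramified K (ResidueField B) := ⟨inferInstance⟩
      haveI := Algebra.FormallyUnramified.isSeparable K (ResidueField B)
      exact hsep (Algebra.IsSeparable.trans (ResidueField A) K (ResidueField B))
    obtain ⟨y, hy⟩ := hex
    obtain ⟨b, rfl⟩ := residue_surjective y
    haveI : IsScalarTower A K (ResidueField B) := IsScalarTower.of_algebraMap_eq fun a => rfl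
    let ΦL := KaehlerDifferential.map A K B (ResidueField B)
    have hΦL : ∀ x, ΦL (KaehlerDifferential.D A B x) = KaehlerDifferential.D K (ResidueField B) (residue B x) :=
      fun x => KaehlerDifferential.map_D A K B (ResidueField B) x
    have hspan : ∀ x, ∃ c : B, c • KaehlerDifferential.D A B b = KaehlerDifferential.D A B x := by
      obtain ⟨r, hr⟩ := Submodule.mem_span_singleton.1
        (hω.ge (Submodule.mem_top (x := KaehlerDifferential.D A B b)))
      have hru : IsUnit r := by
        by_contra hne
        apply hy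
        rw [← hΦL, ← hr, map_smul, ← algebraMap_smul (ResidueField B) r, ResidueField.algebraMap_eq,
          (residue_eq_zero_iff r).2 ((mem_maximalIdeal r).2 hne), zero_smul]
      obtain ⟨v, rfl⟩ := hru
      intro x
      obtain ⟨s, hs⟩ := Submodule.mem_span_singleton.1
        (hω.ge (Submodule.mem_top (x := KaehlerDifferential.D A B x)))
      exact ⟨s * ↑v⁻¹, by rw [← hr, smul_smul, mul_assoc, Units.inv_mul, mul_one, hs]⟩
    have hint : IsIntegral K (residue B b) := Algebra.IsIntegral.isIntegral _
    let K1 := IntermediateField.adjoin K {residue B b}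
    have htop : Function.Surjective (algebraMap K1 (ResidueField B)) := by
      haveI : Subsingleton Ω[ResidueField B⁄K1] := by
        refine subsingleton_of_forall_eq 0 fun w => ?_
        have hw : w ∈ Submodule.span (ResidueField B) (Set.range (KaehlerDifferential.D K1 (ResidueField B))) :=
          (KaehlerDifferential.span_range_derivation K1 (ResidueField B)).ge Submodule.mem_top
        have hall : ∀ z, KaehlerDifferential.D K1 (ResidueField B) z = 0 := by
          intro z
          obtain ⟨x, rfl⟩ := residue_surjective z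
          obtain ⟨c, hc⟩ := hspan x
          have e0 := congrArg ΦL hc
          rw [map_smul, hΦL, hΦL, ← algebraMap_smul (ResidueField B) c] at e0
          have e1 := congrArg (KaehlerDifferential.map K K1 (ResidueField B) (ResidueField B)) e0
          rw [LinearMap.map_smul, KaehlerDifferential.map_D, KaehlerDifferential.map_D, Algebra.algebraMap_self_apply,
            Algebra.algebraMap_self_apply] at e1
          rw [← e1, show KaehlerDifferential.D K1 (ResidueField B) (residue B b) = 0 from
            (KaehlerDifferential.D K1 (ResidueField B)).map_algebraMap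
              ⟨residue B b, IntermediateField.mem_adjoin_simple_self K _⟩, smul_zero]
        rwa [show Set.range (KaehlerDifferential.D K1 (ResidueField B)) = {0} from
          Set.eq_singleton_iff_nonempty_unique_mem.2 ⟨Set.range_nonempty _, by rintro _ ⟨z, rfl⟩; exact hall z⟩,
          Submodule.span_zero_singleton, Submodule.mem_bot] at hw
      haveI : Algebra.FormallyUnramified K1 (ResidueField B) := ⟨inferInstance⟩
      haveI : Module.Finite K1 (ResidueField B) := Module.Finite.of_restrictScalars_finite K _ _
      haveI := Algebra.FormallyUnramified.isSeparable K1 (ResidueField B)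
      haveI : IsPurelyInseparable K1 (ResidueField B) := IntermediateField.isPurelyInseparable_tower_top (F := K) (K := ResidueField B) (M := K1)
      exact IsPurelyInseparable.surjective_algebraMap_of_isSeparable _ _
    have hgen : Function.Surjective (aeval (R := K) (residue B b)) := fun z => by
      obtain ⟨⟨z, hz⟩, rfl⟩ := htop z
      have : z ∈ (IntermediateField.adjoin K {residue B b}).toSubalgebra := hz
      rw [IntermediateField.adjoin_simple_toSubalgebra_of_isAlgebraic hint.isAlgebraic,
        Algebra.adjoin_singleton_eq_range_aeval] at this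
      exact this
    let F := minpoly K (residue B b)
    have hF' : F.derivative = 0 := by
      by_contra hne
      have hsepb : IsSeparable K (residue B b) := (separable_iff_derivative_ne_zero (minpoly.irreducible hint)).2 hne
      obtain ⟨x, hx⟩ := IsPurelyInseparable.inseparable K (residue B b) hsepb
      exact hy (by rw [← hx, Derivation.map_algebraMap])
    refine le_length_of_generator he he1 K ι.toRingHom hιA hιB b hgen ?_ e le_rfl fun x hx => ?_
    · obtain ⟨bF, hbF⟩ := Ideal.Quotient.mk_surjective (eval₂ ι.toRingHom (Ideal.Quotient.mk _ b) F)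
      let g' : B ⧸ maximalIdeal B ^ e →+* ResidueField B := g
      have hg'ι : g'.comp ι.toRingHom = algebraMap K (ResidueField B) :=
        RingHom.ext fun z => Algebra.FormallySmooth.liftOfSurjective_apply K.val g hg hnil z
      have hbFm : bF ∈ maximalIdeal B := by
        rw [← residue_eq_zero_iff]
        have := congrArg g' hbF
        rw [hom_eval₂, hg'ι] at this
        exact this.trans (minpoly.aeval K (residue B b))
      obtain h1 | he2 := he1.eq_or_lt
      · refine ⟨π, ?_, hπ⟩
        rw [← hbF, Ideal.Quotient.eq, ← h1, pow_one]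
        exact sub_mem (hπ ▸ Ideal.mem_span_singleton_self π) hbFm
      refine ⟨bF, hbF, span_of_not_mem_sq hπ hbFm fun hsq => ?_⟩
      -- otherwise the residue field lifts to `B / m ^ 2` and gives a derivation that kills `b` but not `π`
      let r2 : B ⧸ maximalIdeal B ^ e →+* B ⧸ maximalIdeal B ^ 2 := Ideal.Quotient.factor (Ideal.pow_le_pow_right he2)
      let φ2 : K[X] →+* B ⧸ maximalIdeal B ^ 2 := eval₂RingHom (r2.comp ι.toRingHom) (Ideal.Quotient.mk _ b)
      have hφF : φ2 F = 0 := by
        show eval₂ (r2.comp ι.toRingHom) (r2 (Ideal.Quotient.mk _ b)) F = 0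
        rw [← hom_eval₂, ← hbF]
        exact Ideal.Quotient.eq_zero_iff_mem.2 hsq
      let lift2 : ResidueField B →+* B ⧸ maximalIdeal B ^ 2 :=
        RingHom.liftOfSurjective (aeval (R := K) (residue B b)).toRingHom hgen ⟨φ2, fun p hp => by
          obtain ⟨h, rfl⟩ := minpoly.dvd K _ (RingHom.mem_ker.1 hp)
          rw [RingHom.mem_ker, map_mul, hφF, zero_mul]⟩
      have hlift : ∀ p, lift2 (aeval (residue B b) p) = φ2 p := fun p =>
        RingHom.liftOfRightInverse_comp_apply _ _ _ _ p
      let g2 : B ⧸ maximalIdeal B ^ 2 →+* ResidueField B := Ideal.Quotient.factor (Ideal.pow_le_self two_ne_zero)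
      have hg2 : ∀ z, g2 (lift2 z) = z := fun z => by
        obtain ⟨p, rfl⟩ := hgen z
        rw [hlift]
        show g2 (eval₂ (r2.comp ι.toRingHom) (Ideal.Quotient.mk _ b) p) = _
        rw [hom_eval₂, show g2.comp (r2.comp ι.toRingHom) = algebraMap K (ResidueField B) from
          RingHom.ext fun x => by
            rw [← hg'ι]
            obtain ⟨w, hw⟩ := Ideal.Quotient.mk_surjective (ι.toRingHom x)
            simp only [RingHom.comp_apply]
            rw [← hw]
            rfl]
        rfl
      have hprod : ∀ z z' : B ⧸ maximalIdeal B ^ 2, g2 z = 0 → g2 z' = 0 → z * z' = 0 := by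
        intro z z' hz hz'
        obtain ⟨z, rfl⟩ := Ideal.Quotient.mk_surjective z
        obtain ⟨z', rfl⟩ := Ideal.Quotient.mk_surjective z'
        rw [← map_mul, Ideal.Quotient.eq_zero_iff_mem, pow_two]
        exact Ideal.mul_mem_mul ((residue_eq_zero_iff z).1 hz) ((residue_eq_zero_iff z').1 hz')
      obtain ⟨Φ, hΦ⟩ := exists_lift (A := A) 2 (fun x => Ideal.Quotient.mk _ x - lift2 (residue B x))
        (fun x x' => by rw [map_add, map_add, map_add]; ring)
        (fun x x' => by
          have hv : ∀ v, g2 (Ideal.Quotient.mk _ v - lift2 (residue B v)) = 0 := fun v => by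
            rw [map_sub, hg2]; exact sub_self _
          have := hprod _ _ (hv x) (hv x')
          rw [map_mul, map_mul, map_mul]
          linear_combination -this)
        (fun a => by
          have h1 : residue B (algebraMap A B a) = aeval (residue B b) (C (algebraMap (ResidueField A) K (residue A a))) := by
            rw [aeval_C]; rfl
          rw [h1, hlift, show φ2 (C _) = r2 (ι.toRingHom _) from eval₂_C _ _, hιA]
          exact sub_self _)
      obtain ⟨c, hc⟩ := hspan π
      have h0 : Φ (KaehlerDifferential.D A B π) = 0 := by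
        rw [← hc, map_smul, hΦ, show residue B b = aeval (residue B b) (X : K[X]) from (aeval_X _).symm, hlift,
          show φ2 X = Ideal.Quotient.mk _ b from eval₂_X _ _, sub_self, smul_zero]
      rw [hΦ, (residue_eq_zero_iff π).2 (hπ ▸ Ideal.mem_span_singleton_self π), map_zero, sub_zero,
        Ideal.Quotient.eq_zero_iff_mem] at h0
      exact irreducible_not_mem_sq hπirr h0
    · rw [derivative_pow, hF', mul_zero, eval₂_zero, eq_comm, Ideal.Quotient.eq_zero_iff_mem] at hx
      exact hx

end Groth.Agent.Ram24
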